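import Cfsg.Agent.H308.CA.Stmts
import Cfsg.Agent.ClassicalGeometry.PSUAutMain
import Cfsg.Agent.ClassicalGeometry.HermOrtho

/-!
# Groups with normal subgroup `PSU_n(q)` act on the star ring `Matrix (Fin n) (Fin n) F`
-/

set_option autoImplicit false

namespace Cfsg.Agent.H466.CA.BridgeUni

open Matrix Cfsg.Agent.H308.CA Cfsg.Agent.ClassicalGeometry.PSUAutCount Cfsg.Agent.LieClassical.HermBasic
  Cfsg.Agent.LieClassical.HermSiegel Cfsg.Agent.ClassicalGeometry.UnitAutBasic
  Cfsg.Agent.LieClassical.FieldTransfer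

universe u

/-- the involution `x ↦ x ^ q` -/
@[reducible] def sr {F : Type} [Field F] [Fintype F] {q : ℕ} (hF : Fintype.card F = q ^ 2) : StarRing F where
  star x := x ^ q
  star_involutive x := pow_q_pow_q hF x
  star_mul a b := by
    change (a * b) ^ q = b ^ q * a ^ q
    rw [mul_pow, mul_comm]
  star_add a b := add_pow_q hF a b

section

variable {F : Type} [Field F] [StarRing F] {n q : ℕ}

theorem herm_eq (hst : ∀ x : F, star x = x ^ q) (u v : Fin n → F) :
    hermForm n F q u v = star v ⬝ᵥ u := by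
  rw [herm_def, dotProduct]
  refine Finset.sum_congr rfl fun i _ => ?_
  rw [mul_comm, Pi.star_apply, hst]

theorem herm_mul (hst : ∀ x : F, star x = x ^ q) (M : Matrix (Fin n) (Fin n) F) (u v : Fin n → F) :
    hermForm n F q (M *ᵥ u) (M *ᵥ v) = star v ⬝ᵥ ((star M * M) *ᵥ u) := by
  rw [herm_eq hst, star_mulVec, ← dotProduct_mulVec, mulVec_mulVec]
  rfl

theorem isom_iff (hst : ∀ x : F, star x = x ^ q) (M : Matrix (Fin n) (Fin n) F) :
    (∀ u v, hermForm n F q (M *ᵥ u) (M *ᵥ v) = hermForm n F q u v) ↔ star M * M = 1 := by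
  constructor
  · intro h
    apply Matrix.ext_of_mulVec_single
    intro j
    rw [one_mulVec]
    apply dotProduct_eq
    intro w
    have h1 := h (Pi.single j 1) (star w)
    rw [herm_mul hst, herm_eq hst, star_star] at h1
    rw [dotProduct_comm, h1, dotProduct_comm]
  · intro h u v
    rw [herm_mul hst, h, one_mulVec, herm_eq hst]

/-- the identification of the two special unitary groups -/
def kap (hst : ∀ x : F, star x = x ^ q) : H308.CA.SU (Fin n) F ≃* Cfsg.SU n F q where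
  toFun u := ⟨⟨mt u, mt_det u⟩, (isom_iff hst _).2 (star_mt_mul u)⟩
  invFun g := Cfsg.Agent.H308.CA.mkSU (mat g) ((isom_iff hst _).1 g.2) (det_mat g)
  left_inv _ := rfl
  right_inv _ := rfl
  map_mul' u v := Subtype.ext (Subtype.ext (map_mul mt u v))

theorem mat_kap (hst : ∀ x : F, star x = x ^ q) (u : H308.CA.SU (Fin n) F) : mat (kap hst u) = mt u := rfl

theorem star_gm_mul (hst : ∀ x : F, star x = x ^ q) (A : Cfsg.GU n F q) : star (gm A) * gm A = 1 :=
  (isom_iff hst _).1 A.2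

theorem gm_inv (hst : ∀ x : F, star x = x ^ q) (A : Cfsg.GU n F q) : gm A⁻¹ = star (gm A) := by
  rw [← Matrix.mul_one (star (gm A)), ← gm_mul_inv A, ← Matrix.mul_assoc, star_gm_mul hst, Matrix.one_mul]

theorem star_map (hst : ∀ x : F, star x = x ^ q) (ρ : F ≃+* F) (a : Matrix (Fin n) (Fin n) F) :
    (star a).map ρ = star (a.map ρ) := by
  ext i j
  rw [Matrix.map_apply, Matrix.star_apply, Matrix.star_apply, Matrix.map_apply, hst, hst, map_pow]

/-- the ring automorphism `a ↦ A ρ(a) A⁻¹` -/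
def th (A : Cfsg.GU n F q) (ρ : F ≃+* F) : RingAut (Matrix (Fin n) (Fin n) F) where
  toFun a := gm A * a.map ρ * gm A⁻¹
  invFun a := (gm A⁻¹ * a * gm A).map ρ.symm
  left_inv a := by
    have h : gm A⁻¹ * (gm A * a.map ρ * gm A⁻¹) * gm A = a.map ρ := by
      rw [Matrix.mul_assoc, Matrix.mul_assoc, gm_inv_mul, Matrix.mul_one, ← Matrix.mul_assoc, gm_inv_mul,
        Matrix.one_mul]
    change (gm A⁻¹ * (gm A * a.map ρ * gm A⁻¹) * gm A).map ρ.symm = a
    rw [h]
    ext i j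
    simp
  right_inv a := by
    have h : ((gm A⁻¹ * a * gm A).map ρ.symm).map ρ = gm A⁻¹ * a * gm A := by
      ext i j
      rw [Matrix.map_apply, Matrix.map_apply, RingEquiv.apply_symm_apply]
    change gm A * ((gm A⁻¹ * a * gm A).map ρ.symm).map ρ * gm A⁻¹ = a
    rw [h, Matrix.mul_assoc, Matrix.mul_assoc, gm_mul_inv, Matrix.mul_one, ← Matrix.mul_assoc, gm_mul_inv,
      Matrix.one_mul]
  map_mul' a b := by
    have h : (a * b).map ρ = a.map ρ * b.map ρ := Matrix.map_mul (f := (ρ : F →+* F))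
    rw [h]
    have h2 : gm A * a.map ρ * gm A⁻¹ * (gm A * b.map ρ * gm A⁻¹) =
        gm A * a.map ρ * (gm A⁻¹ * gm A) * b.map ρ * gm A⁻¹ := by
      simp only [Matrix.mul_assoc]
    rw [h2, gm_inv_mul, Matrix.mul_one, Matrix.mul_assoc (gm A) (a.map ρ)]
  map_add' a b := by
    have h : (a + b).map ρ = a.map ρ + b.map ρ := Matrix.map_add ρ (map_add ρ) a b
    rw [h, Matrix.mul_add, Matrix.add_mul]

omit [StarRing F] in
theorem th_apply (A : Cfsg.GU n F q) (ρ : F ≃+* F) (a : Matrix (Fin n) (Fin n) F) :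
    th A ρ a = gm A * a.map ρ * gm A⁻¹ := rfl

theorem th_star (hst : ∀ x : F, star x = x ^ q) (A : Cfsg.GU n F q) (ρ : F ≃+* F) (a : Matrix (Fin n) (Fin n) F) :
    th A ρ (star a) = star (th A ρ a) := by
  rw [th_apply, th_apply, star_mul, star_mul, gm_inv hst, star_star, star_map hst, Matrix.mul_assoc]

omit [StarRing F] in
theorem mat_semiConj (A : Cfsg.GU n F q) (ρ : F ≃+* F) (g : Cfsg.SU n F q) :
    mat (semiConj A ρ g) = th A ρ (mat g) := rfl

end

section

variable {F : Type} [Field F] [Fintype F] [StarRing F] {n q : ℕ}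

/-- compositions -/
theorem exists_comp (hF : Fintype.card F = q ^ 2) (hst : ∀ x : F, star x = x ^ q) (A A' : Cfsg.GU n F q)
    (ρ ρ' : F ≃+* F) :
    ∃ (A'' : Cfsg.GU n F q) (ρ'' : F ≃+* F), th A'' ρ'' = th A ρ * th A' ρ' := by
  have h1 : star (gm A * (gm A').map ρ) * (gm A * (gm A').map ρ) = 1 := by
    have h2 : star (gm A * (gm A').map ρ) * (gm A * (gm A').map ρ) =
        star ((gm A').map ρ) * (star (gm A) * gm A) * (gm A').map ρ := by
      rw [star_mul]
      simp only [Matrix.mul_assoc]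
    have h3 : (star (gm A') * gm A').map ρ = (star (gm A')).map ρ * (gm A').map ρ :=
      Matrix.map_mul (f := (ρ : F →+* F))
    rw [h2, star_gm_mul hst, Matrix.mul_one, ← star_map hst, ← h3, star_gm_mul hst,
      Matrix.map_one ρ (map_zero ρ) (map_one ρ)]
  obtain ⟨B, hB, hBM⟩ := Cfsg.Agent.ClassicalGeometry.HermOrtho.exists_GU_of_isometry hF ((isom_iff hst _).2 h1)
  have hgm : gm (⟨B, hB⟩ : Cfsg.GU n F q) = gm A * (gm A').map ρ := hBM
  refine ⟨⟨B, hB⟩, ρ'.trans ρ, ?_⟩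
  ext1 a
  rw [RingAut.mul_apply, th_apply, th_apply, th_apply, gm_inv hst ⟨B, hB⟩, hgm, star_mul, ← star_map hst,
    ← gm_inv hst, ← gm_inv hst]
  have h3 : (gm A' * a.map ρ' * gm A'⁻¹).map ρ = (gm A').map ρ * (a.map ρ').map ρ * (gm A'⁻¹).map ρ := by
    have e1 : ∀ x y : Matrix (Fin n) (Fin n) F, (x * y).map ρ = x.map ρ * y.map ρ := fun x y =>
      Matrix.map_mul (f := (ρ : F →+* F))
    rw [e1, e1]
  have h4 : a.map (ρ'.trans ρ) = (a.map ρ').map ρ := by
    ext i j
    simp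
  rw [h3, h4]
  simp only [Matrix.mul_assoc]

omit [Fintype F] [StarRing F] in
theorem toAut_mul (A A' A'' : Cfsg.GU n F q) (ρ ρ' ρ'' : F ≃+* F) (h : th A'' ρ'' = th A ρ * th A' ρ') :
    toAut A'' ρ'' = toAut A ρ * toAut A' ρ' := by
  ext x
  obtain ⟨g, rfl⟩ := pr_surjective x
  rw [MulAut.mul_apply, toAut_pr, toAut_pr, toAut_pr]
  congr 1
  apply mat_injective
  rw [mat_semiConj, mat_semiConj, mat_semiConj, h, RingAut.mul_apply]

theorem th_eq (hF : Fintype.card F = q ^ 2) (hn : 3 ≤ n) (hst : ∀ x : F, star x = x ^ q) {A A' : Cfsg.GU n F q}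
    {ρ ρ' : F ≃+* F} (h : toAut A ρ = toAut A' ρ') : th A ρ = th A' ρ' := by
  obtain ⟨rfl, c, hc, hA⟩ := eq_of_toAut_eq hF hn h
  ext1 a
  rw [th_apply, th_apply, gm_inv hst A', hA, star_smul, ← gm_inv hst, hst, Matrix.smul_mul, Matrix.smul_mul,
    Matrix.mul_smul, smul_smul, hc, one_smul]

variable {G : Type u} [Group G]

/-- conjugation of `g` on `S`, as an automorphism of `PSU` -/
def al (S : Subgroup G) [S.Normal] (e : S ≃* Cfsg.PSU n F q) : G →* MulAut (Cfsg.PSU n F q) :=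
  (MulAut.congr e).toMonoidHom.comp MulAut.conjNormal

omit [Fintype F] [StarRing F] in
theorem al_apply (S : Subgroup G) [S.Normal] (e : S ≃* Cfsg.PSU n F q) (g : G) (x : S) :
    e.symm (al S e g (e x)) = MulAut.conjNormal g x := by
  change e.symm (e (MulAut.conjNormal g (e.symm (e x)))) = _
  rw [e.symm_apply_apply, e.symm_apply_apply]

omit [Fintype F] [StarRing F] in
theorem al_coe (S : Subgroup G) [S.Normal] (e : S ≃* Cfsg.PSU n F q) (g : G) (x : Cfsg.PSU n F q) :
    ((e.symm (al S e g x) : S) : G) = g * (e.symm x : S) * g⁻¹ := by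
  have h := al_apply S e g (e.symm x)
  rw [e.apply_symm_apply] at h
  rw [h, MulAut.conjNormal_apply]

/-- the embedding of the special unitary group modulo its centre -/
def jj (hst : ∀ x : F, star x = x ^ q) (S : Subgroup G) (e : S ≃* Cfsg.PSU n F q) : H308.CA.SU (Fin n) F →* G :=
  (S.subtype.comp e.symm.toMonoidHom).comp ((pr n F q).comp (kap hst).toMonoidHom)

omit [Fintype F] in
theorem jj_apply (hst : ∀ x : F, star x = x ^ q) (S : Subgroup G) (e : S ≃* Cfsg.PSU n F q) (u : H308.CA.SU (Fin n) F) :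
    jj hst S e u = (e.symm (pr n F q (kap hst u)) : S) := rfl

theorem main (S : Subgroup G) [S.Normal] (hF : Fintype.card F = q ^ 2) (hn : 3 ≤ n) (hs : ¬ (n = 3 ∧ q = 2))
    (hst : ∀ x : F, star x = x ^ q) (e : S ≃* Cfsg.PSU n F q) :
    ∃ T : TA G (Fin n) F, T.j.range = S ∧ ∀ u, T.j u = 1 ↔ Sc (mt u) 1 := by
  have hex : ∀ g : G, ∃ θ : RingAut (Matrix (Fin n) (Fin n) F), ∃ (A : Cfsg.GU n F q) (ρ : F ≃+* F),
      θ = th A ρ ∧ al S e g = toAut A ρ := by
    intro g
    obtain ⟨A, ρ, h⟩ := Cfsg.Agent.ClassicalGeometry.PSUAutMain.exists_toAut hF hn hs (al S e g)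
    exact ⟨th A ρ, A, ρ, rfl, h⟩
  choose Θ AA RR hΘ hal using hex
  have hmul : ∀ g h : G, Θ (g * h) = Θ g * Θ h := by
    intro g h
    obtain ⟨A, ρ, hA⟩ := exists_comp hF hst (AA g) (AA h) (RR g) (RR h)
    rw [hΘ, hΘ, hΘ, ← hA]
    apply th_eq hF hn hst
    rw [toAut_mul _ _ _ _ _ _ hA, ← hal, ← hal, ← hal, map_mul]
  refine ⟨⟨MonoidHom.mk' Θ hmul, ?_, jj hst S e, ?_, ?_⟩, ?_, ?_⟩
  · intro g a
    change Θ g (star a) = star (Θ g a)
    rw [hΘ, th_star hst]
  · intro u a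
    change Θ (jj hst S e u) a = _
    obtain ⟨B, hB, hBM⟩ := Cfsg.Agent.ClassicalGeometry.HermOrtho.exists_GU_of_isometry hF
      ((isom_iff hst _).2 (star_mt_mul u))
    have hgm : gm (⟨B, hB⟩ : Cfsg.GU n F q) = mt u := hBM
    have hth : ∀ b, th (⟨B, hB⟩ : Cfsg.GU n F q) (RingEquiv.refl F) b = mt u * b * star (mt u) := by
      intro b
      rw [th_apply, gm_inv hst, hgm]
      congr 2
    rw [← hth, hΘ]
    congr 1
    apply th_eq hF hn hst
    rw [← hal]
    ext x
    obtain ⟨g, rfl⟩ := pr_surjective x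
    apply e.symm.injective
    apply Subtype.ext
    rw [al_coe, jj_apply, toAut_pr, ← Subgroup.coe_inv, ← Subgroup.coe_mul, ← Subgroup.coe_mul, ← map_inv,
      ← map_mul, ← map_mul, ← map_inv, ← map_mul, ← map_mul, ← map_inv]
    congr 3
    apply mat_injective
    rw [mat_mul, mat_mul, mat_semiConj, hth, mat_kap, mat_kap, mt_inv]
  · intro g u v h
    change mt v = Θ g (mt u) at h
    rw [jj_apply, jj_apply, ← al_coe, hal, toAut_pr]
    congr 3
    apply mat_injective
    rw [mat_semiConj, ← hΘ, mat_kap, mat_kap, h]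
  · change (jj hst S e).range = S
    ext x
    rw [MonoidHom.mem_range]
    constructor
    · rintro ⟨u, rfl⟩
      exact SetLike.coe_mem _
    · intro hx
      obtain ⟨g, hg⟩ := pr_surjective (e ⟨x, hx⟩)
      refine ⟨(kap hst).symm g, ?_⟩
      rw [jj_apply, MulEquiv.apply_symm_apply, hg, MulEquiv.symm_apply_apply]
  · intro u
    change jj hst S e u = 1 ↔ _
    have hpr : ∀ g : Cfsg.SU n F q, pr n F q g = 1 ↔ g ∈ Subgroup.center (Cfsg.SU n F q) := fun g =>
      QuotientGroup.eq_one_iff g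
    rw [jj_apply, OneMemClass.coe_eq_one, map_eq_one_iff _ e.symm.injective, hpr]
    constructor
    · intro h
      obtain ⟨c, -, hc, hv⟩ := Cfsg.Agent.ClassicalGeometry.PSUAutBasic.exists_scalar_of_mem_center hF hn h
      refine ⟨c, by rw [hst, mul_comm, hc], ?_⟩
      apply Matrix.ext_of_mulVec_single
      intro i
      have h1 := hv (Pi.single i 1)
      rw [act_def, mat_kap] at h1
      rw [h1, smul_mulVec, one_mulVec]
    · rintro ⟨c, -, hc⟩
      apply Cfsg.Agent.ClassicalGeometry.PSUAutBasic.mem_center_of_act (c := c)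
      intro v
      rw [act_def, mat_kap, hc, smul_mulVec, one_mulVec]

end

theorem bridge_uni {G : Type u} [Group G] [Finite G] (S : Subgroup G) [S.Normal]
    (_hc : Subgroup.centralizer (S : Set G) = ⊥) (F : Type) [Field F] [Fintype F] (n q : ℕ)
    (hF : Fintype.card F = q ^ 2) (hn : 3 ≤ n) (hs : ¬ (n = 3 ∧ q = 2)) (e : S ≃* Cfsg.PSU n F q) :
    ∃ (s : StarRing F), (∃ a : F, star a ≠ a) ∧ ∃ T : TA G (Fin n) F, T.j.range = S ∧
      ∀ u, T.j u = 1 ↔ Sc (mt u) 1 := by
  refine ⟨sr hF, exists_not_fixed hF, ?_⟩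
  let _ := sr hF
  exact main S hF hn hs (fun _ => rfl) e

end Cfsg.Agent.H466.CA.BridgeUni
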